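set_option autoImplicit false
namespace Cfsg.Agent.Lib.Helper6.TCD.HNC6U
noncomputable def SC (i : Nat) : Nat := Nat.land (Nat.shiftRight 0x40000002000000100000001000000040000000000000000000001000000040000000000000000000000 (Nat.mul 30 (Nat.land i 1023))) 1073741823
end Cfsg.Agent.Lib.Helper6.TCD.HNC6U
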