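set_option autoImplicit false
namespace Cfsg.Agent.Lib.Helper6.TCD.HNC6U
noncomputable def SH (i : Nat) : Nat := Nat.land (Nat.shiftRight 0x12000060000280001000005800028000070000200000a0000200002000014000030000200000300000000002000000000100000c000010000100000000001 (Nat.mul 43 (Nat.land i 1023))) 8796093022207
end Cfsg.Agent.Lib.Helper6.TCD.HNC6U
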